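import Mathlib
import Cfsg.Agent.Syl8.SigB
import Cfsg.Agent.Inv.UT4

/-! Groups with Sylow 2-subgroups of type `A₈` and a solvable centraliser of the central involution. -/

set_option autoImplicit false
set_option synthInstance.maxSize 100000
set_option synthInstance.maxHeartbeats 1000000

namespace Cfsg.Agent.Syl8

open Cfsg.Agent.Spor Cfsg.Agent.Rec Cfsg.Agent.Rec.S43 Cfsg.Agent.Inv Cfsg.Agent.Inv.Fz Cfsg.Agent.GT Subgroup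

universe u

/-- The letters in the unitriangular group. -/
def eU : List UT4 := [⟨0, 0, 0, 0, 0, 1⟩, ⟨0, 0, 0, 1, 0, 1⟩, ⟨0, 0, 0, 0, 1, 1⟩, ⟨0, 1, 0, 0, 0, 0⟩,
  ⟨1, 0, 0, 0, 0, 0⟩, ⟨0, 0, 1, 0, 0, 0⟩]

theorem eU_sat : Sat relS eU := by
  simp only [relS, relE, exS, eU, List.cons_append, List.nil_append, sat_cons, sat_nil, evalW_cons, evalW_nil,
    nth_zero, nth_succ, mul_one, and_true]
  decide +kernel

theorem eU_top : clos eU = ⊤ := by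
  have h : ∀ a b c d e f : ZMod 2, ∃ i j k l m n : Fin 2, (⟨a, b, c, d, e, f⟩ : UT4) =
      (⟨1, 0, 0, 0, 0, 0⟩ : UT4) ^ (i : ℕ) * (⟨0, 1, 0, 0, 0, 0⟩ : UT4) ^ (j : ℕ) * (⟨0, 0, 1, 0, 0, 0⟩ : UT4) ^ (k : ℕ) *
        (⟨0, 0, 0, 1, 0, 1⟩ : UT4) ^ (l : ℕ) * (⟨0, 0, 0, 0, 1, 1⟩ : UT4) ^ (m : ℕ) *
        (⟨0, 0, 0, 0, 0, 1⟩ : UT4) ^ (n : ℕ) := by decide +kernel
  refine eq_top_iff.2 fun ⟨a, b, c, d, e, f⟩ _ => ?_
  obtain ⟨i, j, k, l, m, n, h1⟩ := h a b c d e f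
  rw [h1]
  refine mul_mem (mul_mem (mul_mem (mul_mem (mul_mem ?_ ?_) ?_) ?_) ?_) ?_ <;>
    exact pow_mem (mem_clos (by simp [eU])) _

variable {G : Type u} [Group G] [Finite G]

theorem exists_bs (S : Sylow 2 G) (φ : UT4 ≃* (S : Subgroup G))
    (hsol : ∀ z : G, z ∈ (S : Subgroup G) → (∀ s ∈ (S : Subgroup G), s * z = z * s) → orderOf z = 2 →
      IsSolvable (centralizer ({z} : Set G))) : Nonempty (Bs G) := by
  let ψ : UT4 →* G := (S : Subgroup G).subtype.comp φ.toMonoidHom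
  have h1 : clos (eU.map ψ) = S := by
    rw [← map_clos, eU_top, ← MonoidHom.range_eq_map, MonoidHom.range_comp,
      MonoidHom.range_eq_top.2 φ.surjective, ← MonoidHom.range_eq_map, range_subtype]
  have h0 := (repL_permOf A_ok (c := cS) (by decide +kernel))
  obtain ⟨C, hC⟩ := presS.cod_of_card h0 (h0.sat relS_ok) rfl (h0.gen S_ok).2 (by norm_num) (eU_sat.map ψ) rfl
    (by rw [h1, ← Nat.card_congr φ.toEquiv, UT4.card])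
  have hl : (eU.map ψ).length = 6 := rfl
  generalize eU.map ψ = e at h1 hC hl
  match e, hl, h1, hC with
  | [z, y1, y2, u, r1, r2], _, h1, hC =>
  have h2 : (∀ x ∈ clos [z, y1, y2, u, r1, r2], x * z = z * x) ∧ orderOf z = 2 :=
    ((hC.gen S_ok).1.cons Cod.listsL_nil).decide hC (by decide +kernel)
  exact ⟨⟨z, y1, y2, u, r1, r2, C, hC, h1 ▸ isSylIn_top S, hsol z (h1 ▸ mem_clos (by simp)) (h1 ▸ h2.1) h2.2⟩⟩

theorem Bs.NoG.of_eq {s s' : Bs G} (h : s.NoG) (hz : s'.z = s.z) (hS : s'.S = s.S) (hE : s'.E = s.E) : s'.NoG := by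
  unfold Bs.NoG at h ⊢
  rwa [hz, hS, hE]

theorem Bs.zt_y (s : Bs G) (hO : oddCore G = ⊥) (h2 : pCore 2 G = ⊥) (h : s.NoG) {c : G} (hc : s.IsC c) :
    s.Zt s.y1 ∨ s.Zt s.y2 ∨ s.Zt (s.y1 * s.y2) := by
  obtain ⟨x, hx, hxz, g, rfl⟩ := s.exists_zt hO h2
  obtain ⟨m, hm, h3⟩ := s.inv_conj hc s.S_le (mem_cen.2 hc.1) hx (conj_sq s.z_sq)
  obtain ⟨o1, o2, o3, o4, o5, o6, o7, o8, o9⟩ := s.orb s.Zt fun k _ x =>
    ⟨fun ⟨a, ha⟩ => ⟨k⁻¹ * a, by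
      calc _ = k⁻¹ * (a * s.z * a⁻¹) * k := by group
        _ = _ := by rw [ha]; group⟩, fun ⟨a, ha⟩ => ⟨k * a, by rw [← ha]; group⟩⟩
  rw [← s.ε6, ← s.ε2, ← s.ε4]
  have key : s.Zt (s.ε 8) ∨ s.Zt (s.ε 9) → s.Zt (s.ε 2) ∨ s.Zt (s.ε 4) ∨ s.Zt (s.ε 6) := fun h4 => by
    obtain ⟨σ, hσ, h5⟩ : ∃ σ ∈ autz s.ε 16, σ ∈ Pt 16 1 8 ∨ σ ∈ Pt 16 1 9 := by
      rcases h4 with ⟨a, ha⟩ | ⟨a, ha⟩
      · obtain ⟨k, σ, h5, h6⟩ := s.ctrl (s.ε1 ▸ ha)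
        exact ⟨σ, h5.mem_autz, .inl h6⟩
      · obtain ⟨k, σ, h5, h6⟩ := s.ctrl (s.ε1 ▸ ha)
        exact ⟨σ, h5.mem_autz, .inr h6⟩
    obtain ⟨τ, ⟨k, hk⟩, h6⟩ := lin8 s.eps s.W0_le (s.stW h) hσ h5
    have h7 : ∀ j, τ ∈ Pt 16 1 j → s.Zt (s.ε j) := fun j hj => ⟨k, s.ε1 ▸ hk.pt hj⟩
    rcases h6 with h6 | h6 | h6 | h6 | h6 | h6
    exacts [.inl (h7 _ h6), .inl (o1.1 (h7 _ h6)), .inr (.inl (h7 _ h6)), .inr (.inl (o2.1 (h7 _ h6))),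
      .inr (.inr (h7 _ h6)), .inr (.inr (o3.1 (h7 _ h6)))]
  obtain ⟨i, hi, e⟩ := (s.eps.mem _).1 h3
  have h4 : s.Zt (s.ε i) := ⟨m * g, by rw [e]; group⟩
  have h5 : i ≠ 0 := by
    rintro rfl
    exact s.z_ne (conj_eq_one.1 (conj_eq_one.1 (e.symm.trans s.ε0)))
  have h6 : i ≠ 1 := by
    rintro rfl
    refine hxz ?_
    have h7 := mem_cen'.1 (inv_mem hm)
    rw [← s.ε1] at h7
    nth_rewrite 1 [e] at h7
    rw [s.ε1] at h7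
    exact Eq.trans (by group) h7
  interval_cases i
  exacts [absurd rfl h5, absurd rfl h6, .inl h4, .inl (o1.1 h4), .inr (.inl h4), .inr (.inl (o2.1 h4)),
    .inr (.inr h4), .inr (.inr (o3.1 h4)), key (.inl h4), key (.inr h4), key (.inr (o7.1 h4)), key (.inl (o4.1 h4)),
    key (.inr (o8.1 h4)), key (.inl (o5.1 h4)), key (.inr (o9.1 h4)), key (.inl (o6.1 h4))]

theorem main (s : Bs G) (hG : ∀ H : Subgroup G, H.index ≠ 2) (hO : oddCore G = ⊥) (h2 : pCore 2 G = ⊥) :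
    Nonempty (G ≃* alternatingGroup (Fin 8)) ∨ Nonempty (G ≃* alternatingGroup (Fin 9)) ∨
      Nonempty (G ≃* PSp 2 (ZMod 3)) := by
  have hc : ∀ s' : Bs G, ∃ c, s'.IsC c := fun s' => s'.delta hG hO h2
  by_cases h : s.NoG
  · have key : ∀ s : Bs G, s.NoG → s.Zt s.y1 →
        Nonempty (G ≃* alternatingGroup (Fin 8)) ∨ Nonempty (G ≃* alternatingGroup (Fin 9)) := fun s h h1 => by
      obtain ⟨c, hc'⟩ := hc s
      refine (s.final_alt (s.odd_nog hO h h1 hc) h hc' h1).resolve_left ?_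
      rintro ⟨N, hN, -, h3, h4, -⟩
      have h5 : N ≤ pCore 2 G := le_pCore (IsPGroup.of_card (n := 3) h4)
      rw [h2, le_bot_iff] at h5
      rw [h5, card_bot] at h4
      omega
    obtain ⟨c, hc'⟩ := hc s
    rw [← or_assoc]
    refine .inl ?_
    rcases s.zt_y hO h2 h hc' with h1 | h1 | h1
    · exact key s h h1
    · obtain ⟨s', a0, a1, -, -, -, -, a2, a3⟩ := s.s12
      exact key s' (h.of_eq a0 a2 a3) (by unfold Bs.Zt at h1 ⊢; rwa [a0, a1])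
    · obtain ⟨s', a0, a1, -, -, -, -, a2, a3⟩ := s.s13
      exact key s' (h.of_eq a0 a2 a3) (by unfold Bs.Zt at h1 ⊢; rwa [a0, a1])
  · obtain ⟨c, hc'⟩ := hc s
    exact .inr (.inr (s.final_psp (s.odd_gam hO h2 h hc') h hc' hG (ZMod.card 3)))

end Cfsg.Agent.Syl8
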